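import Mathlib
import Cfsg.Prelude.Def_Local
import Cfsg.Prelude.Def_Transfer
import Cfsg.Prelude.Def_LocalEven
import Cfsg.Agent.Lib.QuadSFour.Basic
import Cfsg.Agent.Lib.Involves.SymFour
import Cfsg.Agent.Lib.Involves.Basic
import Cfsg.Agent.Lib.PGroup.CoprimeImage
import Cfsg.Agent.Lib.PSolvable.HallHigman
import Cfsg.Agent.Lib.PSolvable.CoprimeQuot
import Cfsg.Agent.Lib.SZ.Card

/-!
`S₄`-free 2-constrained groups with Sylow 2-subgroup of class at most 2: `G = N(J_e(S)) O(G)`.
-/

set_option autoImplicit false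

namespace Cfsg.Agent.Lib.QuadSFour

open Subgroup
open scoped commutatorElement

variable {G : Type*} [Group G] [Finite G]

/-- In a Sylow 2-subgroup of class at most 2 commutators are central. -/
def ClassTwo (S : Subgroup G) : Prop :=
  ∀ a ∈ S, ∀ b ∈ S, ∀ c ∈ S, ⁅a, b⁆ * c = c * ⁅a, b⁆

omit [Finite G] in
theorem classTwo_of_lcs (S : Subgroup G) (h : Subgroup.lowerCentralSeries S 2 = ⊥) :
    ClassTwo S := by
  intro a ha b hb c hc
  have h2 : ⁅⁅a, b⁆, c⁆ ∈ Subgroup.lowerCentralSeries S 2 := by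
    rw [Subgroup.lowerCentralSeries_succ, Subgroup.lowerCentralSeries_succ,
      Subgroup.lowerCentralSeries_zero]
    exact commutator_mem_commutator (commutator_mem_commutator ha hb) hc
  rw [h, mem_bot, commutatorElement_eq_one_iff_mul_comm] at h2
  exact h2

omit [Finite G] in
theorem ClassTwo.map {G' : Type*} [Group G'] {S : Subgroup G} (h : ClassTwo S) (f : G →* G') :
    ClassTwo (S.map f) := by
  rintro _ ⟨a, ha, rfl⟩ _ ⟨b, hb, rfl⟩ _ ⟨c, hc, rfl⟩
  rw [← map_commutatorElement, ← map_mul, ← map_mul, h a ha b hb c hc]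

omit [Finite G] in
theorem ClassTwo.conj {S : Subgroup G} (h : ClassTwo S) (g : G) :
    ClassTwo (S.map (MulAut.conj g).toMonoidHom) := h.map _

/-- The core of the argument: the elementary abelian subgroups of largest order lie in `O₂(G)`. -/
theorem le_pCore (hcon : centralizer (Cfsg.pCore 2 G : Set G) ≤ Cfsg.pCore 2 G)
    (hS4 : ¬ Cfsg.Involves (Equiv.Perm (Fin 4)) G) (S : Sylow 2 G)
    (hcl : ClassTwo (S : Subgroup G)) {A : Subgroup G}
    (hA : A ∈ Thompson.maxIn 2 (S : Subgroup G)) : A ≤ Cfsg.pCore 2 G := by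
  haveI : Fact (Nat.Prime 2) := ⟨Nat.prime_two⟩
  set Q := Cfsg.pCore 2 G with hQ
  have hQS : Q ≤ (S : Subgroup G) := PSolvable.pCore_le_sylow S
  have hQsyl : ∀ R : Sylow 2 G, Q ≤ (R : Subgroup G) := PSolvable.pCore_le_sylow
  have hcl' : ∀ R : Sylow 2 G, ClassTwo (R : Subgroup G) := by
    intro R
    obtain ⟨g, hg⟩ := MulAction.exists_smul_eq G S R
    rw [← hg, Sylow.coe_subgroup_smul]
    exact hcl.map _
  haveI : Q.Normal := inferInstance
  set Z1 : Set G := {z | z ∈ (S : Subgroup G) ∧ z * z = 1 ∧ ∀ s ∈ (S : Subgroup G), z * s = s * z}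
    with hZ1
  set V := normalClosure Z1 with hV
  have hZQ : ∀ z ∈ Z1, z ∈ Q ∧ z ∈ centralizer (Q : Set G) := by
    rintro z ⟨-, -, hzc⟩
    have hzC : z ∈ centralizer (Q : Set G) :=
      mem_centralizer_iff.mpr fun q hq => (hzc q (hQS hq)).symm
    exact ⟨hcon hzC, hzC⟩
  set Z := Q ⊓ centralizer (Q : Set G) with hZ
  have hVZ : V ≤ Z := normalClosure_le_normal hZQ
  have hVab : ∀ u ∈ V, ∀ v ∈ V, u * v = v * u := fun u hu v hv =>
    mem_centralizer_iff.mp (hVZ hv).2 u (hVZ hu).1
  have hVsq : ∀ v ∈ V, v * v = 1 := by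
    intro v hv
    let W : Subgroup G :=
      { carrier := {u | u ∈ Z ∧ u * u = 1}
        one_mem' := ⟨Z.one_mem, by simp⟩
        mul_mem' := by
          rintro a b ⟨ha, ha2⟩ ⟨hb, hb2⟩
          refine ⟨Z.mul_mem ha hb, ?_⟩
          rw [show a * b * (a * b) = a * (b * a) * b by group, mem_centralizer_iff.mp ha.2 b hb.1,
            show a * (a * b) * b = (a * a) * (b * b) by group, ha2, hb2, mul_one]
        inv_mem' := by
          rintro a ⟨ha, ha2⟩
          exact ⟨Z.inv_mem ha, by rw [← mul_inv_rev, ha2, inv_one]⟩ }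
    haveI : Z.Normal := inferInstance
    haveI : W.Normal := ⟨fun u hu g => ⟨(inferInstance : Z.Normal).conj_mem u hu.1 g, by
      rw [show g * u * g⁻¹ * (g * u * g⁻¹) = g * (u * u) * g⁻¹ by group, hu.2, mul_one,
        mul_inv_cancel]⟩⟩
    exact ((normalClosure_le_normal (N := W) fun z hz => ⟨hZQ z hz, hz.2.1⟩) hv).2
  have hVS : V ≤ (S : Subgroup G) := fun v hv => hQS (hVZ hv).1
  set K := centralizer (V : Set G) with hK
  -- `[Q, A] ≤ V`
  have hQA : ∀ a ∈ A, ∀ q ∈ Q, ⁅q, a⁆ ∈ V := by
    intro a ha q hq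
    have hqS := hQS hq
    have haS := hA.2.1 ha
    refine subset_normalClosure
      ⟨mul_mem (mul_mem (mul_mem hqS haS) (inv_mem hqS)) (inv_mem haS), ?_, hcl q hqS a haS⟩
    have ha2 : a * a = 1 := by rw [← pow_two]; exact hA.1.2 a ha
    have hcomm := hcl q hqS a haS a haS
    calc ⁅q, a⁆ * ⁅q, a⁆ = ⁅q, a⁆ * (a * ⁅q, a⁆ * a⁻¹) := by
          rw [show a * ⁅q, a⁆ * a⁻¹ = ⁅q, a⁆ by rw [← hcomm, mul_inv_cancel_right]]
      _ = ⁅q, a * a⁆ := by simp only [commutatorElement_def]; group
      _ = 1 := by rw [ha2, commutatorElement_one_right]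
  -- elements of `A` centralising `V` lie in `Q`
  have hAK : ∀ a ∈ A, a ∈ K → a ∈ Q := by
    intro a ha haK
    let U : Subgroup G :=
      { carrier := {g | g ∈ K ∧ ∀ q ∈ Q, ⁅q, g⁆ ∈ V}
        one_mem' := ⟨K.one_mem, fun q _ => by rw [commutatorElement_one_right]; exact V.one_mem⟩
        mul_mem' := by
          rintro g h ⟨hg, hg'⟩ ⟨hh, hh'⟩
          refine ⟨K.mul_mem hg hh, fun q hq => ?_⟩
          rw [show ⁅q, g * h⁆ = ⁅q, g⁆ * (g * ⁅q, h⁆ * g⁻¹) by
            simp only [commutatorElement_def]; group]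
          exact V.mul_mem (hg' q hq) ((inferInstance : V.Normal).conj_mem _ (hh' q hq) g)
        inv_mem' := by
          rintro g ⟨hg, hg'⟩
          refine ⟨K.inv_mem hg, fun q hq => ?_⟩
          rw [show ⁅q, g⁻¹⁆ = g⁻¹ * ⁅q, g⁆⁻¹ * g⁻¹⁻¹ by simp only [commutatorElement_def]; group]
          exact (inferInstance : V.Normal).conj_mem _ (V.inv_mem (hg' q hq)) g⁻¹ }
    haveI : K.Normal := inferInstance
    haveI : U.Normal := ⟨fun g hg t => ⟨(inferInstance : K.Normal).conj_mem g hg.1 t, fun q hq => by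
      have h1 : t⁻¹ * q * t ∈ Q := by
        simpa using (inferInstance : Q.Normal).conj_mem q hq t⁻¹
      have h2 := (inferInstance : V.Normal).conj_mem _ (hg.2 _ h1) t
      convert h2 using 1
      simp only [commutatorElement_def]; group⟩⟩
    have hU2 : IsPGroup 2 U := by
      rw [IsPGroup.iff_orderOf]
      intro u
      obtain ⟨k, m, hm, hord⟩ := Nat.exists_eq_pow_mul_and_not_dvd (orderOf_pos (u : G)).ne' 2
        (by norm_num)
      refine ⟨k, ?_⟩
      rw [← Subgroup.orderOf_coe u, hord]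
      suffices m = 1 by rw [this, mul_one]
      set w := (u : G) ^ 2 ^ k with hw
      have hwo : orderOf w = m := by
        rw [hw, orderOf_pow' _ (pow_ne_zero k two_ne_zero), hord, Nat.gcd_mul_right_left,
          Nat.mul_div_cancel_left _ (pow_pos two_pos k)]
      have hwU : w ∈ U := U.pow_mem u.2 _
      -- `w` centralises `Q`
      have hwQ : w ∈ centralizer (Q : Set G) := by
        rw [mem_centralizer_iff]
        intro q hq
        set v := ⁅q, w⁆ with hv
        have hvV : v ∈ V := hwU.2 q hq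
        have hwv : v * w = w * v := mem_centralizer_iff.mp hwU.1 v hvV
        have hpow : ∀ j : ℕ, ⁅q, w ^ j⁆ = v ^ j := by
          intro j
          induction j with
          | zero => rw [pow_zero, pow_zero, commutatorElement_one_right]
          | succ j ih =>
            rw [pow_succ, show ⁅q, w ^ j * w⁆ = ⁅q, w ^ j⁆ * (w ^ j * ⁅q, w⁆ * (w ^ j)⁻¹) by
              simp only [commutatorElement_def]; group, ih, ← hv,
              show w ^ j * v = v * w ^ j from (Commute.pow_right (show Commute v w from hwv) j).eq.symm,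
              mul_inv_cancel_right, pow_succ]
        have h1 := hpow (orderOf w)
        rw [pow_orderOf_eq_one, commutatorElement_one_right] at h1
        have h2 : v ^ 2 = 1 := by rw [pow_two]; exact hVsq v hvV
        have hodd : Odd (orderOf w) := hwo ▸ Nat.odd_iff.mpr (Nat.two_dvd_ne_zero.mp hm)
        obtain ⟨l, hl⟩ := hodd
        rw [hl, pow_succ, pow_mul, h2, one_pow, one_mul] at h1
        exact commutatorElement_eq_one_iff_mul_comm.mp h1.symm
      obtain ⟨i, hi⟩ := IsPGroup.iff_orderOf.mp PSolvable.pCore_isPGroup ⟨w, hcon hwQ⟩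
      rw [orderOf_mk, hwo] at hi
      rcases Nat.eq_zero_or_pos i with h | h
      · rw [hi, h, pow_zero]
      · exact absurd (hi ▸ dvd_pow_self 2 h.ne') hm
    exact PSolvable.le_pCore hU2 ⟨haK, hQA a ha⟩
  by_contra hAQ
  have hAnK : ¬ A ≤ K := fun h => hAQ fun a ha => hAK a ha (h ha)
  -- the module
  letI : CommGroup V := { (inferInstance : Group V) with
    mul_comm := fun u v => Subtype.ext (hVab u u.2 v v.2) }
  letI : DistribMulAction G (Additive V) :=
    { smul := fun g m => Additive.ofMul (MulAut.conjNormal g m.toMul)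
      one_smul := fun m => show Additive.ofMul (MulAut.conjNormal (1 : G) m.toMul) = m by simp
      mul_smul := fun g h m => show Additive.ofMul (MulAut.conjNormal (g * h) m.toMul) =
        Additive.ofMul (MulAut.conjNormal g (MulAut.conjNormal h m.toMul)) by simp
      smul_zero := fun g => show Additive.ofMul (MulAut.conjNormal g (1 : V)) = 0 by simp
      smul_add := fun g m n => show Additive.ofMul (MulAut.conjNormal g (m.toMul * n.toMul)) =
        Additive.ofMul (MulAut.conjNormal g m.toMul) + Additive.ofMul (MulAut.conjNormal g n.toMul) by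
        simp }
  have hval : ∀ (g : G) (m : Additive V), ((g • m).toMul : G) = g * (m.toMul : G) * g⁻¹ :=
    fun g m => MulAut.conjNormal_apply g m.toMul
  have hdev : ∀ (g : G) (m : Additive V),
      ((dev g m).toMul : G) = ⁅g, (m.toMul : G)⁆ := by
    intro g m
    show (((g • m).toMul / m.toMul : V) : G) = _
    rw [Subgroup.coe_div, hval, commutatorElement_def, div_eq_mul_inv]
  have hM2 : ∀ m : Additive V, m + m = 0 := fun m =>
    Additive.toMul.injective (Subtype.ext (hVsq _ m.toMul.2))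
  have hq : ∀ P : Subgroup G, IsPGroup 2 P → ∀ s ∈ P, ∀ t ∈ P, ∀ m : Additive V,
      dev t (dev s m) = 0 := by
    intro P hP s hs t ht m
    obtain ⟨R, hR⟩ := hP.exists_le_sylow
    refine Additive.toMul.injective (Subtype.ext ?_)
    rw [hdev, hdev]
    exact commutatorElement_eq_one_iff_mul_comm.mpr
      (hcl' R s (hR hs) _ (hQsyl R (hVZ m.toMul.2).1) t (hR ht)).symm
  set C0 : AddSubgroup (Additive V) := ⊥
  set Vt : AddSubgroup (Additive V) := ⊤
  have hstab : ∀ g : G, g ∈ (stab Vt C0 : Subgroup G) := fun g =>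
    mem_stab (fun _ _ => AddSubgroup.mem_top _) fun m hm => by
      rw [AddSubgroup.mem_bot] at hm ⊢
      rw [hm, smul_zero]
  have hker : ∀ g : G, g ∈ (kerMod Vt C0 : Subgroup G) ↔ g ∈ K := by
    intro g
    constructor
    · intro hg
      rw [hK, mem_centralizer_iff]
      intro v hv
      have h1 := hg.2 (Additive.ofMul ⟨v, hv⟩) (AddSubgroup.mem_top _)
      rw [AddSubgroup.mem_bot] at h1
      have h2 := hdev g (Additive.ofMul ⟨v, hv⟩)
      rw [h1] at h2
      exact (commutatorElement_eq_one_iff_mul_comm.mp h2.symm).symm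
    · refine fun hg => ⟨hstab g, fun m _ => ?_⟩
      rw [AddSubgroup.mem_bot]
      refine Additive.toMul.injective (Subtype.ext ?_)
      rw [hdev]
      exact commutatorElement_eq_one_iff_mul_comm.mpr
        (mem_centralizer_iff.mp hg _ m.toMul.2).symm
  have hAsq : ∀ a ∈ A, a * a = 1 := fun a ha => by rw [← pow_two]; exact hA.1.2 a ha
  obtain ⟨B, hBA, hBK, hBc⟩ := exists_complement hAsq K
  -- `O₂(G/C(V)) = 1`
  have hred : ∀ N : Subgroup (G ⧸ K), N.Normal → IsPGroup 2 N → N = ⊥ := by
    intro N hN hNp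
    haveI := hN
    set L := N.comap (QuotientGroup.mk' K) with hL
    haveI : L.Normal := hN.comap _
    have hKL : K ≤ L := by
      intro g hg
      show QuotientGroup.mk' K g ∈ N
      rw [show QuotientGroup.mk' K g = 1 from (QuotientGroup.eq_one_iff g).mpr hg]
      exact N.one_mem
    set T0 := (S : Subgroup G) ⊓ L with hT0
    have hidx : ¬ 2 ∣ ((S : Subgroup G).subgroupOf L).index := by
      intro h
      have h1 : (S : Subgroup G).relIndex L ∣ (S : Subgroup G).index := by
        rw [← inf_relIndex_right]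
        have h2 := relIndex_mul_relIndex ((S : Subgroup G) ⊓ L) (S : Subgroup G)
          ((S : Subgroup G) ⊔ L) inf_le_left le_sup_left
        have h3 := relIndex_mul_relIndex ((S : Subgroup G) ⊓ L) L ((S : Subgroup G) ⊔ L)
          inf_le_right le_sup_right
        rw [inf_relIndex_left] at h2
        rw [inf_relIndex_right, relIndex_sup_right] at h3
        have h4 : (S : Subgroup G).relIndex ((S : Subgroup G) ⊔ L) = (S : Subgroup G).relIndex L := by
          have hne : L.relIndex (S : Subgroup G) ≠ 0 := FiniteIndex.index_ne_zero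
          exact mul_left_cancel₀ hne (h2.trans (by rw [← h3, mul_comm]))
        rw [inf_relIndex_right, ← h4]
        exact Dvd.intro _ (relIndex_mul_index le_sup_left)
      exact S.not_dvd_index (h.trans h1)
    let T : Sylow 2 L := IsPGroup.toSylow (P := (S : Subgroup G).subgroupOf L)
      S.2.comap_subtype hidx
    have hTmap : (T : Subgroup L).map L.subtype = T0 := subgroupOf_map_subtype _ _
    have hfr := T.normalizer_sup_eq_top
    rw [hTmap] at hfr
    -- `L = K T0`
    have hLeq : L ≤ K ⊔ T0 := by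
      intro g hg
      obtain ⟨t, ht, hte⟩ : ∃ t ∈ T0, QuotientGroup.mk' K t = QuotientGroup.mk' K g := by
        let f' : L →* N := ((QuotientGroup.mk' K).comp L.subtype).codRestrict N fun l => l.2
        have hf' : Function.Surjective f' := by
          rintro ⟨n, hn⟩
          obtain ⟨l, rfl⟩ := QuotientGroup.mk'_surjective K n
          exact ⟨⟨l, hn⟩, rfl⟩
        have htop : (T.mapSurjective hf' : Subgroup N) = ⊤ :=
          (T.mapSurjective hf').3 (hNp.to_subgroup ⊤) le_top |>.symm
        obtain ⟨t, ht, hte⟩ := (htop.ge (mem_top (f' ⟨g, hg⟩)) :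
          f' ⟨g, hg⟩ ∈ (T : Subgroup L).map f')
        exact ⟨t, hTmap ▸ ⟨t, ht, rfl⟩, congrArg Subtype.val hte⟩
      have hkk : g * t⁻¹ ∈ K := by
        rw [← QuotientGroup.eq_one_iff]
        show QuotientGroup.mk' K (g * t⁻¹) = 1
        rw [map_mul, map_inv, hte, mul_inv_cancel]
      rw [show g = g * t⁻¹ * t by group]
      exact mul_mem_sup hkk ht
    have hall : (⊤ : Subgroup G) ≤ normalizer (T0 : Set G) ⊔ K := by
      rw [← hfr]
      refine sup_le le_sup_left (hLeq.trans (sup_le le_sup_right ?_))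
      exact le_normalizer.trans le_sup_left
    -- `T0` centralises `V`
    have hT0K : T0 ≤ K := by
      intro t ht
      have hsub : normalClosure Z1 ≤ centralizer ({t} : Set G) ⊓ V ⊔ ⊥ := by
        rw [sup_bot_eq]
        refine closure_le _ |>.mpr ?_
        intro y hy
        obtain ⟨z, hz, hyz⟩ := Group.mem_conjugatesOfSet_iff.mp hy
        obtain ⟨g, rfl⟩ := isConj_iff.mp hyz
        have hzV : z ∈ V := subset_normalClosure hz
        refine ⟨?_, (inferInstance : V.Normal).conj_mem z hzV g⟩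
        obtain ⟨n, hn, k, hk, rfl⟩ := mem_sup_of_normal_right.mp (hall (mem_top g))
        have hkz : k * z * k⁻¹ = z := by
          rw [← mem_centralizer_iff.mp hk z hzV, mul_inv_cancel_right]
        rw [show n * k * z * (n * k)⁻¹ = n * (k * z * k⁻¹) * n⁻¹ by group, hkz]
        refine mem_centralizer_singleton_iff.mpr ?_
        have ht' : n⁻¹ * t * n ∈ T0 := (mem_normalizer_iff''.mp hn t).mp ht
        have hc := hz.2.2 _ ht'.1
        calc n * z * n⁻¹ * t = n * (z * (n⁻¹ * t * n)) * n⁻¹ := by group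
          _ = n * ((n⁻¹ * t * n) * z) * n⁻¹ := by rw [hc]
          _ = t * (n * z * n⁻¹) := by group
      rw [hK, mem_centralizer_iff]
      intro v hv
      have h := hsub hv
      rw [sup_bot_eq] at h
      exact mem_centralizer_singleton_iff.mp h.1
    rw [eq_bot_iff]
    intro n hn
    obtain ⟨g, rfl⟩ := QuotientGroup.mk'_surjective K n
    exact (QuotientGroup.eq_one_iff g).mpr (sup_le le_rfl hT0K (hLeq hn))
  -- the configuration
  have hcfg : Config Vt C0 B := by
    refine ⟨bot_le, fun b hb => hAsq b (hBA hb), fun b _ => hstab b, ?_, ?_, ?_, ?_⟩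
    · intro hbot
      rw [hbot, card_bot, mul_one] at hBc
      exact hAnK (inf_eq_left.mp (eq_of_le_of_card_ge inf_le_left hBc))
    · intro b hb hbk
      exact (eq_bot_iff_forall _).mp hBK b ⟨hb, (hker b).mp hbk⟩
    · -- offender
      have hE : IsElementaryAbelian 2 ((A ⊓ K) ⊔ V) := by
        refine ElemAbelian.sup ⟨⟨⟨fun u v => Subtype.ext ?_⟩⟩, fun u hu => hA.1.2 u hu.1⟩
          ⟨⟨⟨fun u v => Subtype.ext (hVab u u.2 v v.2)⟩⟩, fun v hv => by
            rw [pow_two]; exact hVsq v hv⟩
          fun u hu => mem_centralizer_iff.mpr fun v hv => mem_centralizer_iff.mp hu.2 v hv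
        exact comm_of_sq hAsq u.2.1 v.2.1
      have hEle : (A ⊓ K) ⊔ V ≤ (S : Subgroup G) := sup_le (inf_le_left.trans hA.2.1) hVS
      have h1 := hA.2.2 _ hE hEle
      have h2 := SZ.card_sup_mul_card_inf (A ⊓ K) V
      have hVK : V ≤ K := fun v hv => mem_centralizer_iff.mpr fun u hu => hVab u hu v hv
      have h3 : (A ⊓ K) ⊓ V = A ⊓ V := by
        rw [inf_assoc, inf_eq_right.mpr hVK]
      rw [h3] at h2
      have h4 : Nat.card (A ⊓ V : Subgroup G) ≤ Nat.card (fixMod B Vt C0) := by
        refine Nat.card_le_card_of_injective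
          (fun w => ⟨Additive.ofMul (⟨w, w.2.2⟩ : V), ?_⟩) ?_
        · refine mem_fixMod.mpr ⟨AddSubgroup.mem_top _, fun b hb => ?_⟩
          rw [AddSubgroup.mem_bot]
          refine Additive.toMul.injective (Subtype.ext ?_)
          rw [hdev]
          exact commutatorElement_eq_one_iff_mul_comm.mpr (comm_of_sq hAsq (hBA hb) w.2.1)
        · intro w w' hww
          exact Subtype.ext (congrArg
            (fun q : fixMod B Vt C0 => ((Additive.toMul (q : Additive V) : V) : G)) hww)
      have hVt : Nat.card Vt = Nat.card V :=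
        (Nat.card_congr AddSubgroup.topEquiv.toEquiv).trans (Nat.card_congr Additive.toMul)
      rw [hVt]
      refine le_trans ?_ (Nat.mul_le_mul_left _ h4)
      refine Nat.le_of_mul_le_mul_left ?_ (Nat.card_pos (α := (A ⊓ K : Subgroup G)))
      rw [← h2, ← mul_assoc]
      exact Nat.mul_le_mul_right _ (h1.trans hBc)
    · intro b hb hb1
      haveI : K.Normal := inferInstance
      rcases inverts_or_core (K := K) (hAsq b (hBA hb)) with ⟨x, hx1, hx2, hx3⟩ | ⟨N, hN, hNp, hbN⟩
      · exact ⟨x, hstab x, hx1, hx2, fun h => hx3 ((hker x).mp h)⟩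
      · exfalso
        rw [hred N hN hNp, mem_bot] at hbN
        exact hb1 ((eq_bot_iff_forall _).mp hBK b ⟨hb, (QuotientGroup.eq_one_iff b).mp hbN⟩)
  obtain ⟨e, y, he, hey, hy3, m, hym⟩ := goal_of_config hM2 hq Vt C0 B hcfg
  refine hS4 (Involves.involves_s4_of_pair V
    ⟨⟨⟨fun u v => Subtype.ext (hVab u u.2 v v.2)⟩⟩, fun v hv => by rw [pow_two]; exact hVsq v hv⟩
    (x := e) (y := y) (by rw [normalizer_eq_top]; exact mem_top _)
    (by rw [normalizer_eq_top]; exact mem_top _) ⟨1, by rw [pow_one, pow_two, he]⟩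
    (by rwa [inv_eq_of_mul_eq_one_right he]) ?_ ?_)
  · rw [mem_centralizer_iff]
    intro v hv
    have h := congrArg (fun q : Additive V => ((Additive.toMul q : V) : G))
      (hy3 (Additive.ofMul ⟨v, hv⟩))
    simp only [hval, toMul_ofMul] at h
    calc v * y ^ 3 = (y * (y * (y * v * y⁻¹) * y⁻¹) * y⁻¹) * y ^ 3 := by rw [h]
      _ = y ^ 3 * v := by simp [pow_succ, mul_assoc]
  · intro hy
    refine hym (Additive.toMul.injective (Subtype.ext ?_))
    rw [hval, ← mem_centralizer_iff.mp hy _ m.toMul.2, mul_inv_cancel_right]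

/-- `G = N_G(J_e(S)) O(G)`. -/
theorem normalizer_sup_pPrimeCore_eq_top (hcon : Cfsg.IsPConstrained 2 G)
    (hS4 : ¬ Cfsg.Involves (Equiv.Perm (Fin 4)) G) (S : Sylow 2 G)
    (hcl : ClassTwo (S : Subgroup G)) :
    normalizer ((Cfsg.thompsonSubgroupOf 2 (S : Subgroup G)) : Set G) ⊔ Cfsg.pPrimeCore 2 G = ⊤ := by
  haveI : Fact (Nat.Prime 2) := ⟨Nat.prime_two⟩
  set O := Cfsg.pPrimeCore 2 G with hO
  have hOc : (Nat.card O).Coprime 2 := PSolvable.pPrimeCore_coprime
  set f := QuotientGroup.mk' O with hf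
  have hcon' := PSolvable.isPConstrained_iff.mp hcon
  set S' := S.mapSurjective (QuotientGroup.mk'_surjective O) with hS'
  have hJle : thompsonSubgroupOf 2 (S' : Subgroup (G ⧸ O)) ≤ Cfsg.pCore 2 (G ⧸ O) := by
    rw [Thompson.thompsonSubgroupOf_eq_sSup]
    exact sSup_le fun A hA => le_pCore hcon'
      (fun h => hS4 (Involves.of_quotient f (QuotientGroup.mk'_surjective O) h)) S' (hcl.map f) hA
  have hJn : (thompsonSubgroupOf 2 (S' : Subgroup (G ⧸ O))).Normal := by
    rw [← Thompson.thompsonSubgroupOf_eq_of_le hJle (PSolvable.pCore_le_sylow S')]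
    refine normalizer_eq_top_iff.mp (top_le_iff.mp ?_)
    refine le_trans ?_ (Thompson.normalizer_le 2 _)
    rw [normalizer_eq_top]
  have h1 : (thompsonSubgroupOf 2 (S : Subgroup G)).map f =
      thompsonSubgroupOf 2 (S' : Subgroup (G ⧸ O)) := CoprimeImage.map_thompsonSubgroupOf S.2 hOc
  have h2 := PSolvable.normalizer_map_mk' O hOc
    (S.2.to_le (Thompson.thompsonSubgroupOf_le 2 (S : Subgroup G)))
  rw [← hf, h1] at h2
  rw [show normalizer ((thompsonSubgroupOf 2 (S' : Subgroup (G ⧸ O)) : Subgroup (G ⧸ O)) :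
    Set (G ⧸ O)) = ⊤ by rw [normalizer_eq_top_iff]; exact hJn] at h2
  refine eq_top_iff.mpr fun g _ => ?_
  obtain ⟨n, hn, hng⟩ := h2.le (mem_top (f g))
  rw [show g = n * (n⁻¹ * g) by group]
  exact mul_mem_sup hn (QuotientGroup.eq.mp hng)

end Cfsg.Agent.Lib.QuadSFour
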